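import Mathlib

set_option autoImplicit false

/-! Hilbert 90 and surjectivity of the norm for a finite commutative ring with an involution `σ` such that
`σ w - w` is a unit for some `w`; applied to the commutative algebra generated by one matrix. -/

namespace CfsgLib.Conj

section Ring

variable {R : Type*} [CommRing R] [Finite R] (σ : R →+* R)

theorem hilbert90_units (hσ : ∀ r, σ (σ r) = r) {w : R} (hw : IsUnit (σ w - w)) (x : R) (hx : x * σ x = 1) :
    ∃ y : R, IsUnit y ∧ x * σ y = y := by
  classical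
  have : Finite (Ideal R) := Finite.of_injective (fun I : Ideal R => (I : Set R)) SetLike.coe_injective
  let ι := {M : Ideal R // M.IsMaximal}
  have : Fintype ι := Fintype.ofFinite ι
  let y : R → R := fun a => a + x * σ a
  have hy : ∀ a, σ (y a) = σ x * y a := fun a => by
    simp only [y, map_add, map_mul, hσ]
    linear_combination (-σ a) * hx
  let pick : ι → R := fun M => if y 1 ∈ M.1 then w else 1
  have hpick : ∀ M : ι, y (pick M) ∉ M.1 := by
    intro M
    by_cases h1 : y 1 ∈ M.1
    · simp only [pick, if_pos h1]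
      intro h2
      have hd : σ w - w ∈ M.1 := by
        have := M.1.sub_mem (M.1.mul_mem_right (σ w) h1) h2
        simpa [y, add_mul] using this
      exact M.2.ne_top (Ideal.eq_top_of_isUnit_mem _ hd hw)
    · simp only [pick, if_neg h1]; exact h1
  obtain ⟨a, ha⟩ := Ideal.exists_forall_sub_mem_ideal (I := fun M : ι => M.1)
    (fun M N hMN => Ideal.isCoprime_iff_sup_eq.mpr (Ideal.IsMaximal.coprime_of_ne M.2 N.2 (fun h => hMN (Subtype.ext h))))
    pick
  refine ⟨y a, ?_, ?_⟩
  · by_contra hnu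
    obtain ⟨m, hm, hmem⟩ := exists_max_ideal_of_mem_nonunits hnu
    let M : ι := ⟨m, hm⟩
    let M' : ι := ⟨m.comap σ, Ideal.comap_isMaximal_of_surjective σ (fun r => ⟨σ r, hσ r⟩)⟩
    have hσx : IsUnit (σ x) := ⟨⟨σ x, x, by rw [mul_comm]; exact hx, hx⟩, rfl⟩
    have hiff : ∀ b, y b ∈ M'.1 ↔ y b ∈ m := fun b => by
      show σ (y b) ∈ m ↔ _
      rw [hy, Ideal.unit_mul_mem_iff_mem m hσx]
    have hpp : pick M' = pick M := by
      by_cases h : y 1 ∈ m
      · simp only [pick, if_pos h, if_pos ((hiff 1).mpr h), M]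
      · simp only [pick, if_neg h, if_neg (mt (hiff 1).mp h), M]
    have h1 : a - pick M ∈ m := ha M
    have h2 : σ a - σ (pick M) ∈ m := by
      have := ha M'
      rw [hpp, Ideal.mem_comap, map_sub] at this
      exact this
    apply hpick M
    have := m.sub_mem hmem (m.add_mem h1 (m.mul_mem_left x h2))
    convert this using 1
    simp only [y]; ring
  · simp only [y, map_add, map_mul, hσ]
    linear_combination a * hx

theorem exists_norm_eq (hσ : ∀ r, σ (σ r) = r) {w : R} (hw : IsUnit (σ w - w)) (u : R) (hu : IsUnit u)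
    (hfix : σ u = u) : ∃ y : R, IsUnit y ∧ y * σ y = u := by
  classical
  let s : Rˣ →* Rˣ := Units.map σ.toMonoidHom
  have hs : ∀ r : Rˣ, s (s r) = r := fun r => Units.ext (hσ _)
  let N : Rˣ →* Rˣ := MonoidHom.id _ * s
  let D : Rˣ →* Rˣ := MonoidHom.id _ / s
  have hker : N.ker = D.range := by
    ext x
    constructor
    · intro hx
      obtain ⟨y, hyu, hy⟩ := hilbert90_units σ hσ hw (x : R) (congrArg Units.val hx)
      refine ⟨hyu.unit, ?_⟩
      show hyu.unit / s hyu.unit = x
      rw [div_eq_iff_eq_mul]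
      exact Units.ext hy.symm
    · rintro ⟨y, rfl⟩
      show (y / s y) * s (y / s y) = 1
      rw [map_div, hs]
      simp [div_eq_mul_inv, mul_comm, mul_left_comm]
  have hle : N.range ≤ D.ker := by
    rintro _ ⟨y, rfl⟩
    show (y * s y) / s (y * s y) = 1
    rw [map_mul, hs, mul_comm y, div_self']
  have hcard : Nat.card N.range = Nat.card D.ker := by
    have h1 := Subgroup.card_eq_card_quotient_mul_card_subgroup N.ker
    have h2 := Subgroup.card_eq_card_quotient_mul_card_subgroup D.ker
    rw [Nat.card_congr (QuotientGroup.quotientKerEquivRange N).toEquiv] at h1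
    rw [Nat.card_congr (QuotientGroup.quotientKerEquivRange D).toEquiv] at h2
    rw [hker] at h1
    have h3 : Nat.card D.range ≠ 0 := Nat.card_pos.ne'
    rw [h2, mul_comm (Nat.card N.range)] at h1
    exact (Nat.eq_of_mul_eq_mul_left (Nat.pos_of_ne_zero h3) h1).symm
  have heq : N.range = D.ker := Subgroup.eq_of_le_of_card_ge hle hcard.ge
  have : hu.unit ∈ N.range := by
    rw [heq]
    show hu.unit / s hu.unit = 1
    rw [div_eq_one]
    exact Units.ext hfix.symm
  obtain ⟨y, hy⟩ := this
  exact ⟨y, y.isUnit, congrArg Units.val hy⟩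

end Ring

section Adjoin

variable {K : Type*} [Field K] [Finite K] {A : Type*} [Ring A] [Algebra K A] [Finite A]
  (φ : K →+* K) (τ : A →+ A)

theorem commute_of_mem_adjoin_singleton {Z a b : A} (ha : a ∈ Algebra.adjoin K {Z}) (hb : b ∈ Algebra.adjoin K {Z}) :
    a * b = b * a := by
  rw [Algebra.adjoin_singleton_eq_range_aeval] at ha hb
  obtain ⟨P, rfl⟩ := ha
  obtain ⟨Q, rfl⟩ := hb
  show Polynomial.aeval Z P * Polynomial.aeval Z Q = Polynomial.aeval Z Q * Polynomial.aeval Z P
  rw [← map_mul, ← map_mul, mul_comm]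

theorem map_mem_adjoin_singleton (hmul : ∀ a b, τ (a * b) = τ b * τ a)
    (hsc : ∀ c, τ (algebraMap K A c) = algebraMap K A (φ c)) {Z : A} (hZ : τ Z ∈ Algebra.adjoin K {Z})
    {a : A} (ha : a ∈ Algebra.adjoin K {Z}) : τ a ∈ Algebra.adjoin K {Z} := by
  induction ha using Algebra.adjoin_induction with
  | mem x hx => rw [Set.mem_singleton_iff] at hx; rw [hx]; exact hZ
  | algebraMap r => rw [hsc]; exact Subalgebra.algebraMap_mem _ _
  | add x y _ _ hx hy => rw [map_add]; exact add_mem hx hy
  | mul x y _ _ hx hy => rw [hmul]; exact mul_mem hy hx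

/-- Hilbert 90 and norm surjectivity inside `K[Z]`, for a semilinear anti-endomorphism `τ` that is an involution
on `K[Z]`. -/
theorem adjoin_singleton_norm (hmul : ∀ a b, τ (a * b) = τ b * τ a)
    (hsc : ∀ c, τ (algebraMap K A c) = algebraMap K A (φ c)) {w : K} (hw : φ w ≠ w)
    {Z : A} (hZ : τ Z ∈ Algebra.adjoin K {Z}) (hinv : ∀ a ∈ Algebra.adjoin K {Z}, τ (τ a) = a) :
    (∀ x ∈ Algebra.adjoin K {Z}, x * τ x = 1 →
      ∃ y ∈ Algebra.adjoin K {Z}, IsUnit y ∧ x * τ y = y) ∧
    (∀ u ∈ Algebra.adjoin K {Z}, IsUnit u → τ u = u →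
      ∃ y ∈ Algebra.adjoin K {Z}, IsUnit y ∧ y * τ y = u) := by
  set S := Algebra.adjoin K {Z}
  let instR : CommRing S :=
    { (inferInstance : Ring S) with
      mul_comm := fun a b => Subtype.ext (commute_of_mem_adjoin_singleton a.2 b.2) }
  letI := instR
  let σ : S →+* S :=
    { toFun := fun a => ⟨τ a, map_mem_adjoin_singleton φ τ hmul hsc hZ a.2⟩
      map_one' := Subtype.ext (by
        show τ (1 : A) = 1
        rw [← map_one (algebraMap K A), hsc, map_one])
      map_mul' := fun a b => Subtype.ext (by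
        show τ ((a : A) * b) = τ a * τ b
        rw [hmul]
        exact commute_of_mem_adjoin_singleton (map_mem_adjoin_singleton φ τ hmul hsc hZ b.2)
          (map_mem_adjoin_singleton φ τ hmul hsc hZ a.2))
      map_zero' := Subtype.ext (map_zero τ)
      map_add' := fun a b => Subtype.ext (map_add τ _ _) }
  have hσ : ∀ a, σ (σ a) = a := fun a => Subtype.ext (hinv _ a.2)
  let w' : S := ⟨algebraMap K A w, Subalgebra.algebraMap_mem _ _⟩
  have hd : φ w - w ≠ 0 := sub_ne_zero.mpr hw
  have hw' : IsUnit (σ w' - w') := by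
    refine isUnit_iff_exists_inv.mpr ⟨⟨algebraMap K A (φ w - w)⁻¹, Subalgebra.algebraMap_mem _ _⟩, Subtype.ext ?_⟩
    show (τ (algebraMap K A w) - algebraMap K A w) * algebraMap K A (φ w - w)⁻¹ = 1
    rw [hsc, ← map_sub, ← map_mul, mul_inv_cancel₀ hd, map_one]
  constructor
  · intro x hx hx1
    obtain ⟨y, hy, hy'⟩ := hilbert90_units σ hσ hw' ⟨x, hx⟩ (Subtype.ext hx1)
    refine ⟨y, y.2, ?_, congrArg Subtype.val hy'⟩
    obtain ⟨z, hz⟩ := hy.exists_right_inv
    obtain ⟨z', hz'⟩ := hy.exists_left_inv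
    exact isUnit_iff_exists.mpr ⟨z, congrArg Subtype.val hz, (commute_of_mem_adjoin_singleton z.2 y.2).trans (congrArg Subtype.val hz)⟩
  · intro u hu huu hfix
    have hu' : IsUnit (⟨u, hu⟩ : S) := by
      have hbij : Function.Surjective (fun a : S => (⟨u, hu⟩ : S) * a) :=
        Finite.surjective_of_injective fun a b hab => Subtype.ext (huu.mul_left_cancel (congrArg Subtype.val hab :))
      obtain ⟨z, hz⟩ := hbij 1
      exact isUnit_iff_exists_inv.mpr ⟨z, hz⟩
    obtain ⟨y, hy, hy'⟩ := exists_norm_eq σ hσ hw' ⟨u, hu⟩ hu' (Subtype.ext hfix)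
    refine ⟨y, y.2, ?_, congrArg Subtype.val hy'⟩
    obtain ⟨z, hz⟩ := hy.exists_right_inv
    exact isUnit_iff_exists.mpr ⟨z, congrArg Subtype.val hz, (commute_of_mem_adjoin_singleton z.2 y.2).trans (congrArg Subtype.val hz)⟩

end Adjoin

end CfsgLib.Conj
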