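import Mathlib

set_option autoImplicit false

namespace CfsgLib.Conj

open Polynomial

variable {F : Type*} [Field F]

/-- On `F[X]/(p^e)` with `p` irreducible there is a functional whose kernel contains no nonzero ideal. -/
theorem exists_frobenius_functional {p : F[X]} (hp : Irreducible p) (e : ℕ) :
    ∃ lam : (F[X] ⧸ Ideal.span {p ^ e}) →ₗ[F] F, ∀ u, (∀ r, lam (r * u) = 0) → u = 0 := by
  rcases Nat.eq_zero_or_pos e with he | he
  · subst he
    refine ⟨0, fun u _ => ?_⟩
    have : Subsingleton (F[X] ⧸ Ideal.span {p ^ 0}) := by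
      rw [Ideal.Quotient.subsingleton_iff, pow_zero, Ideal.span_singleton_one]
    exact Subsingleton.elim _ _
  set I := Ideal.span {p ^ e}
  have hc : Ideal.Quotient.mk I (p ^ (e - 1)) ≠ 0 := by
    rw [Ne, Ideal.Quotient.eq_zero_iff_mem, Ideal.mem_span_singleton]
    intro h
    have := (pow_dvd_pow_iff hp.ne_zero hp.not_isUnit).mp h
    omega
  obtain ⟨lam, hlam⟩ : ∃ lam : (F[X] ⧸ I) →ₗ[F] F, lam (Ideal.Quotient.mk I (p ^ (e - 1))) ≠ 0 := by
    by_contra h
    push Not at h
    exact hc ((Module.forall_dual_apply_eq_zero_iff F _).mp h)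
  refine ⟨lam, fun u hu => ?_⟩
  obtain ⟨v, rfl⟩ := Ideal.Quotient.mk_surjective u
  by_contra hv
  have hv0 : v ≠ 0 := by rintro rfl; simp at hv
  obtain ⟨j, s, hs, rfl⟩ := WfDvdMonoid.max_power_factor hv0 hp
  have hj : j < e := by
    by_contra h
    exact hv (Ideal.Quotient.eq_zero_iff_mem.mpr (Ideal.mem_span_singleton.mpr
      (dvd_mul_of_dvd_left (pow_dvd_pow p (not_lt.mp h)) s)))
  obtain ⟨a, b, hab⟩ := (hp.coprime_iff_not_dvd.mpr hs).pow_left (m := e)
  apply hlam
  have h1 : Ideal.Quotient.mk I (b * p ^ (e - 1 - j)) * Ideal.Quotient.mk I (p ^ j * s)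
      = Ideal.Quotient.mk I (p ^ (e - 1)) := by
    rw [← map_mul, Ideal.Quotient.mk_eq_mk_iff_sub_mem, Ideal.mem_span_singleton]
    refine ⟨-(a * p ^ (e - 1)), ?_⟩
    have : p ^ (e - 1 - j) * p ^ j = p ^ (e - 1) := by rw [← pow_add]; congr 1; omega
    linear_combination (p ^ (e - 1)) * hab + (b * s) * this
  rw [← h1]
  exact hu _

/-- An endomorphism of a finite dimensional space is self-adjoint for some nondegenerate symmetric form. -/
theorem exists_selfAdjoint_form {V : Type*} [AddCommGroup V] [Module F V] [Module.Finite F V] (f : V →ₗ[F] V) :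
    ∃ B : V →ₗ[F] V →ₗ[F] F, (∀ v w, B v w = B w v) ∧ (∀ v w, B (f v) w = B v (f w)) ∧
      ∀ w, (∀ v, B v w = 0) → w = 0 := by
  classical
  obtain ⟨ι, hfin, p, hp, e, ⟨φ⟩⟩ := Module.equiv_directSum_of_isTorsion (Module.AEval.isTorsion_of_finiteDimensional F V f)
  letI := hfin
  let Φ : Module.AEval' f ≃ₗ[F[X]] ((i : ι) → F[X] ⧸ Ideal.span {p i ^ e i}) :=
    φ.trans (DirectSum.linearEquivFunOnFintype F[X] ι _)
  let ψ : V ≃ₗ[F] ((i : ι) → F[X] ⧸ Ideal.span {p i ^ e i}) :=
    (Module.AEval'.of f).trans (Φ.restrictScalars F)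
  choose lam hlam using fun i => exists_frobenius_functional (hp i) (e i)
  have hψ : ∀ v, ψ (f v) = (X : F[X]) • ψ v := fun v => by
    show Φ (Module.AEval'.of f (f v)) = (X : F[X]) • Φ (Module.AEval'.of f v)
    rw [← map_smul, Module.AEval'.X_smul_of]
  refine ⟨LinearMap.mk₂ F (fun v w => ∑ i, lam i (ψ v i * ψ w i)) ?_ ?_ ?_ ?_, ?_, ?_, ?_⟩
  · intro a b c; simp [add_mul, Finset.sum_add_distrib]
  · intro c a b; simp [Finset.mul_sum, smul_mul_assoc, mul_smul_comm]
  · intro a b c; simp [mul_add, Finset.sum_add_distrib]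
  · intro c a b; simp [Finset.mul_sum, smul_mul_assoc, mul_smul_comm]
  · intro v w
    simp only [LinearMap.mk₂_apply]
    exact Finset.sum_congr rfl fun i _ => by rw [mul_comm]
  · intro v w
    simp only [LinearMap.mk₂_apply, hψ, Pi.smul_apply, smul_mul_assoc, mul_smul_comm]
  · intro w hw
    apply ψ.injective
    rw [map_zero]
    funext i
    refine hlam i _ fun r => ?_
    have := hw (ψ.symm (Pi.single i r))
    simp only [LinearMap.mk₂_apply, LinearEquiv.apply_symm_apply] at this
    rw [Finset.sum_eq_single i] at this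
    · simpa using this
    · intro j _ hj; simp [hj]
    · simp

/-- A square matrix over a field is similar to its transpose, by a symmetric matrix. -/
theorem exists_symm_intertwiner {n : Type*} [Fintype n] [DecidableEq n] (A : Matrix n n F) :
    ∃ S : Matrix n n F, IsUnit S ∧ S.transpose = S ∧ A.transpose * S = S * A := by
  obtain ⟨B, hs, ha, hn⟩ := exists_selfAdjoint_form A.mulVecLin
  refine ⟨LinearMap.toMatrix₂' F B, ?_, ?_, ?_⟩
  · rw [← Matrix.mulVec_injective_iff_isUnit, ← Matrix.coe_mulVecLin, ← LinearMap.ker_eq_bot, Submodule.eq_bot_iff]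
    intro w hw
    refine hn w fun v => ?_
    have h := Matrix.toLinearMap₂'_apply' (LinearMap.toMatrix₂' F B) v w
    rw [Matrix.toLinearMap₂'_toMatrix'] at h
    rw [LinearMap.mem_ker, Matrix.mulVecLin_apply] at hw
    rw [h, hw, dotProduct_zero]
  · ext i j
    simp only [Matrix.transpose_apply, LinearMap.toMatrix₂'_apply]
    exact hs _ _
  · have hl : LinearMap.toMatrix₂' F (B.comp A.mulVecLin) = A.transpose * LinearMap.toMatrix₂' F B := by
      rw [LinearMap.toMatrix₂'_comp, ← Matrix.toLin'_apply', LinearMap.toMatrix'_toLin']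
    have hr : LinearMap.toMatrix₂' F (B.compl₂ A.mulVecLin) = LinearMap.toMatrix₂' F B * A := by
      rw [LinearMap.toMatrix₂'_compl₂, ← Matrix.toLin'_apply', LinearMap.toMatrix'_toLin']
    rw [← hl, ← hr]
    congr 1
    exact LinearMap.ext₂ fun v w => ha v w

theorem isConj_transpose_self {n : Type*} [Fintype n] [DecidableEq n] (A : Matrix n n F) :
    IsConj A A.transpose := by
  obtain ⟨S, ⟨c, hc⟩, -, h⟩ := exists_symm_intertwiner A
  exact ⟨c, by rw [SemiconjBy, hc]; exact h.symm⟩

end CfsgLib.Conj
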