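import Cfsg.Prelude.Def_LieClassical
import Cfsg.Agent.Lib.Conj.NormUnits
import Cfsg.Agent.Lib.Conj.SymmIntertwiner

set_option autoImplicit false

namespace CfsgLib.Conj

variable {K : Type*} [Field K] [Fintype K] {q : ℕ}

/-- The `q`-power map of a field with `q^2` elements is an involutory, non-identity ring endomorphism. -/
theorem exists_frob (hK : Fintype.card K = q ^ 2) :
    ∃ φ : K →+* K, (∀ x, φ x = x ^ q) ∧ (∀ x, φ (φ x) = x) ∧ ∃ w, φ w ≠ w := by
  classical
  obtain ⟨p, hpc⟩ := CharP.exists K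
  obtain ⟨n, hp, hn⟩ := FiniteField.card K p
  haveI := Fact.mk hp
  obtain ⟨j, -, rfl⟩ := (Nat.dvd_prime_pow hp).mp ⟨q, show p ^ (n : ℕ) = q * q by rw [← hn, hK, sq]⟩
  have hq1 : 1 < p ^ j := by
    have := Fintype.one_lt_card (α := K)
    rw [hK] at this
    by_contra h
    interval_cases p ^ j <;> omega
  refine ⟨iterateFrobenius K p j, fun x => iterateFrobenius_def p j x, fun x => ?_, ?_⟩
  · rw [iterateFrobenius_def, iterateFrobenius_def, ← pow_mul, ← sq, ← hK, FiniteField.pow_card]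
  · by_contra h
    push Not at h
    have hroots : ∀ x : K, x ∈ ((Polynomial.X ^ (p ^ j) - Polynomial.X : Polynomial K)).roots.toFinset := by
      intro x
      rw [Multiset.mem_toFinset, Polynomial.mem_roots (FiniteField.X_pow_card_sub_X_ne_zero K hq1)]
      have := h x
      rw [iterateFrobenius_def] at this
      simp [this]
    have h1 := Finset.card_le_card (show (Finset.univ : Finset K) ⊆ _ from fun x _ => hroots x)
    have h2 := Multiset.toFinset_card_le ((Polynomial.X ^ (p ^ j) - Polynomial.X : Polynomial K)).roots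
    have h3 := Polynomial.card_roots' (Polynomial.X ^ (p ^ j) - Polynomial.X : Polynomial K)
    rw [FiniteField.X_pow_card_sub_X_natDegree_eq K hq1] at h3
    rw [Finset.card_univ, hK] at h1
    nlinarith

variable {n : ℕ} (φ : K →+* K)

/-- Conjugate transpose with respect to `φ`, as an additive map. -/
def conjT : Matrix (Fin n) (Fin n) K →+ Matrix (Fin n) (Fin n) K where
  toFun M := (M.map φ).transpose
  map_zero' := by ext; simp
  map_add' a b := by ext; simp

omit [Fintype K] in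
theorem conjT_mul (a b : Matrix (Fin n) (Fin n) K) : conjT (n := n) φ (a * b) = conjT (n := n) φ b * conjT (n := n) φ a := by
  show ((a * b).map φ).transpose = _
  rw [Matrix.map_mul, Matrix.transpose_mul]; rfl

omit [Fintype K] in
theorem conjT_algebraMap (c : K) :
    conjT (n := n) φ (algebraMap K (Matrix (Fin n) (Fin n) K) c) = algebraMap K _ (φ c) := by
  ext i j
  simp only [conjT, AddMonoidHom.coe_mk, ZeroHom.coe_mk, Matrix.transpose_apply, Matrix.map_apply, Matrix.algebraMap_matrix_apply]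
  rcases eq_or_ne i j with rfl | h
  · simp
  · simp [h, Ne.symm h]

omit [Fintype K] in
theorem conjT_one : conjT (n := n) φ (1 : Matrix (Fin n) (Fin n) K) = 1 := by
  have := conjT_algebraMap (n := n) φ 1
  simpa using this

omit [Fintype K] in
theorem conjT_conjT (hφ : ∀ x, φ (φ x) = x) (M : Matrix (Fin n) (Fin n) K) : conjT (n := n) φ (conjT (n := n) φ M) = M := by
  ext i j; simp [conjT, hφ]

omit [Fintype K] in
theorem conjT_units (u : (Matrix (Fin n) (Fin n) K)ˣ) : conjT (n := n) φ ↑u⁻¹ * conjT (n := n) φ ↑u = 1 := by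
  rw [← conjT_mul, ← Units.val_mul, mul_inv_cancel, Units.val_one, conjT_one]

omit [Fintype K] in
theorem mem_GU_iff (hq : ∀ x, φ x = x ^ q) (hφ : ∀ x, φ (φ x) = x) (g : GL (Fin n) K) :
    g ∈ Cfsg.GU n K q ↔ conjT (n := n) φ (g : Matrix (Fin n) (Fin n) K) * g = 1 := by
  set M := (g : Matrix (Fin n) (Fin n) K)
  have hh : ∀ u v : Fin n → K, Cfsg.hermForm n K q u v = u ⬝ᵥ (φ ∘ v) := fun u v => by
    simp [Cfsg.hermForm, dotProduct, hq]
  have hh' : ∀ u v : Fin n → K, Cfsg.hermForm n K q (M.mulVec u) (M.mulVec v) = u ⬝ᵥ (M.transpose * M.map φ).mulVec (φ ∘ v) := by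
    intro u v
    rw [hh]
    have : (φ ∘ M.mulVec v) = (M.map φ).mulVec (φ ∘ v) := funext fun i => RingHom.map_mulVec φ M v i
    rw [this, ← Matrix.mulVec_mulVec, Matrix.dotProduct_mulVec, Matrix.dotProduct_mulVec, Matrix.vecMul_transpose, ← Matrix.dotProduct_mulVec]
  have hiff : g ∈ Cfsg.GU n K q ↔ M.transpose * M.map φ = 1 := by
    constructor
    · intro hg
      ext i j
      have h := hg (Pi.single i 1) (Pi.single j 1)
      change Cfsg.hermForm n K q (M.mulVec (Pi.single i 1)) (M.mulVec (Pi.single j 1)) = _ at h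
      have he : φ ∘ (Pi.single j 1 : Fin n → K) = Pi.single j 1 := by
        funext k; by_cases hk : k = j
        · subst hk; simp
        · simp [hk]
      rw [hh', hh, he, Matrix.mulVec_single_one] at h
      simpa [Matrix.one_apply, Pi.single_apply, eq_comm] using h
    · intro hM u v
      show Cfsg.hermForm n K q (M.mulVec u) (M.mulVec v) = _
      rw [hh', hh, hM, Matrix.one_mulVec]
  have hmap : ∀ Y Z : Matrix (Fin n) (Fin n) K, Y = Z ↔ Y.map φ = Z.map φ := fun Y Z =>
    ⟨fun h => by rw [h], fun h => by ext i j; exact φ.injective (congrFun (congrFun h i) j :)⟩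
  rw [hiff, hmap, Matrix.map_mul]
  have h1 : (M.transpose).map φ = conjT (n := n) φ M := by rw [Matrix.transpose_map]; rfl
  have h2 : (M.map φ).map φ = M := by ext i j; simp [hφ]
  rw [h1, h2, Matrix.map_one φ (map_zero φ) (map_one φ)]

omit [Fintype K] in
theorem units_commute_inv {A : Type*} [Monoid A] (u : Aˣ) {a : A} (h : ↑u * a = a * ↑u) : ↑u⁻¹ * a = a * ↑u⁻¹ :=
  (Commute.units_inv_left (h : Commute (u : A) a)).eq

/-- Elements of `K[Z]` commute with whatever commutes with `Z`. -/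
theorem commute_adjoin_singleton {A : Type*} [Ring A] [Algebra K A] {Z a x : A} (h : Z * a = a * Z)
    (hx : x ∈ Algebra.adjoin K {Z}) : x * a = a * x :=
  ((Algebra.commute_of_mem_adjoin_singleton_of_commute hx (h.symm : Commute a Z)).symm).eq

variable (hφ : ∀ x, φ (φ x) = x) (hw : ∃ w, φ w ≠ w)

include hφ hw

/-- A Hermitian unit commuting with `M` has the form `g* g` with `g` commuting with `M`. -/
theorem exists_conjT_mul_self (H : (Matrix (Fin n) (Fin n) K)ˣ) (hH : conjT (n := n) φ (H : Matrix (Fin n) (Fin n) K) = H) :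
    ∃ y : (Matrix (Fin n) (Fin n) K)ˣ, (y : Matrix (Fin n) (Fin n) K) ∈ Algebra.adjoin K {(H : Matrix (Fin n) (Fin n) K)} ∧
      conjT (n := n) φ (y : Matrix (Fin n) (Fin n) K) * y = H := by
  obtain ⟨w, hw⟩ := hw
  obtain ⟨y, hyS, hyu, hy⟩ := (adjoin_singleton_norm φ (conjT (n := n) φ) (conjT_mul φ) (conjT_algebraMap φ) hw
    (Z := (H : Matrix (Fin n) (Fin n) K)) (by rw [hH]; exact Algebra.self_mem_adjoin_singleton K _)
    (fun a _ => conjT_conjT (n := n) φ hφ a)).2 H (Algebra.self_mem_adjoin_singleton K _) H.isUnit hH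
  refine ⟨hyu.unit, hyS, ?_⟩
  rw [IsUnit.unit_spec]
  refine Eq.trans ?_ hy
  exact commute_of_mem_adjoin_singleton (map_mem_adjoin_singleton φ (conjT (n := n) φ) (conjT_mul φ) (conjT_algebraMap φ)
    (by rw [hH]; exact Algebra.self_mem_adjoin_singleton K _) hyS) hyS

/-- Two elements of the unitary group conjugate in `GL` are conjugate by an element preserving the form. -/
theorem exists_unitary_conj (A B g : (Matrix (Fin n) (Fin n) K)ˣ)
    (hA : conjT (n := n) φ (A : Matrix (Fin n) (Fin n) K) * A = 1) (hB : conjT (n := n) φ (B : Matrix (Fin n) (Fin n) K) * B = 1)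
    (hg : g * A = B * g) :
    ∃ h : (Matrix (Fin n) (Fin n) K)ˣ, conjT (n := n) φ (h : Matrix (Fin n) (Fin n) K) * h = 1 ∧ h * A = B * h := by
  let ctu : (Matrix (Fin n) (Fin n) K)ˣ := ⟨conjT (n := n) φ g, conjT (n := n) φ ↑g⁻¹,
    by rw [← conjT_mul, ← Units.val_mul, inv_mul_cancel, Units.val_one, conjT_one], conjT_units φ g⟩
  let H := ctu * g
  have hH : conjT (n := n) φ (H : Matrix (Fin n) (Fin n) K) = H := by
    show conjT (n := n) φ (conjT (n := n) φ (g : Matrix (Fin n) (Fin n) K) * (g : Matrix (Fin n) (Fin n) K)) = conjT (n := n) φ (g : Matrix (Fin n) (Fin n) K) * (g : Matrix (Fin n) (Fin n) K)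
    rw [conjT_mul, conjT_conjT (n := n) φ hφ]
  have hg' : (g : Matrix (Fin n) (Fin n) K) * A = B * g := congrArg Units.val hg
  have hcomm : (H : Matrix (Fin n) (Fin n) K) * A = A * H := by
    have h1 : conjT (n := n) φ (A : Matrix (Fin n) (Fin n) K) * (H * A) = H := by
      show conjT (n := n) φ (A : Matrix (Fin n) (Fin n) K) * (conjT (n := n) φ (g : Matrix (Fin n) (Fin n) K) * (g : Matrix (Fin n) (Fin n) K) * (A : Matrix (Fin n) (Fin n) K)) = conjT (n := n) φ (g : Matrix (Fin n) (Fin n) K) * (g : Matrix (Fin n) (Fin n) K)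
      rw [mul_assoc (conjT (n := n) φ ↑g), hg', ← mul_assoc, ← conjT_mul, hg', conjT_mul, mul_assoc,
        ← mul_assoc (conjT (n := n) φ ↑B), hB, one_mul]
    have h2 : (A : Matrix (Fin n) (Fin n) K) * conjT (n := n) φ A = 1 := mul_eq_one_comm.mp hA
    calc (H : Matrix (Fin n) (Fin n) K) * A = (A * conjT (n := n) φ A) * (H * A) := by rw [h2, one_mul]
      _ = A * H := by rw [mul_assoc, h1]
  obtain ⟨y, hyS, hy⟩ := exists_conjT_mul_self φ hφ hw H hH
  refine ⟨g * y⁻¹, ?_, ?_⟩
  · show conjT (n := n) φ ((g : Matrix (Fin n) (Fin n) K) * (↑y⁻¹ : Matrix (Fin n) (Fin n) K)) * ((g : Matrix (Fin n) (Fin n) K) * (↑y⁻¹ : Matrix (Fin n) (Fin n) K)) = 1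
    rw [conjT_mul, mul_assoc, ← mul_assoc (conjT (n := n) φ ↑g)]
    show conjT (n := n) φ (↑y⁻¹ : Matrix (Fin n) (Fin n) K) * ((H : Matrix (Fin n) (Fin n) K) * (↑y⁻¹ : Matrix (Fin n) (Fin n) K)) = 1
    rw [← hy, mul_assoc, ← Units.val_mul, mul_inv_cancel, Units.val_one, mul_one, conjT_units]
  · apply Units.ext
    show ((g : Matrix (Fin n) (Fin n) K) * (↑y⁻¹ : Matrix (Fin n) (Fin n) K)) * (A : Matrix (Fin n) (Fin n) K) = (B : Matrix (Fin n) (Fin n) K) * ((g : Matrix (Fin n) (Fin n) K) * (↑y⁻¹ : Matrix (Fin n) (Fin n) K))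
    rw [mul_assoc, units_commute_inv y (commute_adjoin_singleton hcomm hyS), ← mul_assoc, hg', mul_assoc]

/-- An invertible matrix similar to the inverse of its conjugate transpose is similar to a unitary matrix. -/
theorem exists_unitary_similar (A S : (Matrix (Fin n) (Fin n) K)ˣ)
    (hS : conjT (n := n) φ (A : Matrix (Fin n) (Fin n) K) * S * A = S) :
    ∃ g : (Matrix (Fin n) (Fin n) K)ˣ, conjT (n := n) φ ((g * A * g⁻¹ : (Matrix (Fin n) (Fin n) K)ˣ) : Matrix (Fin n) (Fin n) K) * (g * A * g⁻¹ : (Matrix (Fin n) (Fin n) K)ˣ) = 1 := by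
  let ct : (Matrix (Fin n) (Fin n) K)ˣ → (Matrix (Fin n) (Fin n) K)ˣ := fun u =>
    ⟨conjT (n := n) φ u, conjT (n := n) φ ↑u⁻¹, by rw [← conjT_mul, ← Units.val_mul, inv_mul_cancel, Units.val_one, conjT_one],
      conjT_units φ u⟩
  have ctm : ∀ u v, ct (u * v) = ct v * ct u := fun u v => Units.ext (conjT_mul φ _ _)
  have ctct : ∀ u, ct (ct u) = u := fun u => Units.ext (conjT_conjT (n := n) φ hφ _)
  have ctinv : ∀ u, ct u⁻¹ = (ct u)⁻¹ := fun u => rfl
  have hS' : ct A * S * A = S := Units.ext hS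
  have hS'' : ct A * ct S * A = ct S := by
    have := congrArg ct hS'
    rw [ctm, ctm, ctct, ← mul_assoc] at this
    exact this
  let T := S⁻¹ * ct S
  have hTA : T * A = A * T := by
    show S⁻¹ * ct S * A = A * (S⁻¹ * ct S)
    have h1 : S⁻¹ = A⁻¹ * S⁻¹ * (ct A)⁻¹ := by
      conv_lhs => rw [← hS']
      group
    calc S⁻¹ * ct S * A = S⁻¹ * (ct A)⁻¹ * (ct A * ct S * A) := by group
      _ = S⁻¹ * (ct A)⁻¹ * ct S := by rw [hS'']
      _ = A * (A⁻¹ * S⁻¹ * (ct A)⁻¹) * ct S := by group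
      _ = A * (S⁻¹ * ct S) := by rw [← h1, mul_assoc]
  -- the semilinear anti-endomorphism `X ↦ S⁻¹ X* S`
  let τ : Matrix (Fin n) (Fin n) K →+ Matrix (Fin n) (Fin n) K :=
    (AddMonoidHom.mulLeft (↑S⁻¹ : Matrix (Fin n) (Fin n) K)).comp
      ((AddMonoidHom.mulRight (↑S : Matrix (Fin n) (Fin n) K)).comp (conjT (n := n) φ))
  have τ_def : ∀ X, τ X = (↑S⁻¹ : Matrix (Fin n) (Fin n) K) * (conjT (n := n) φ X * (S : Matrix (Fin n) (Fin n) K)) := fun X => rfl
  have hmul : ∀ a b, τ (a * b) = τ b * τ a := fun a b => by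
    simp only [τ_def, conjT_mul, mul_assoc]
    rw [← mul_assoc (S : Matrix (Fin n) (Fin n) K), ← Units.val_mul, mul_inv_cancel, Units.val_one, one_mul]
  have hsc : ∀ c, τ (algebraMap K _ c) = algebraMap K _ (φ c) := fun c => by
    rw [τ_def, conjT_algebraMap, Algebra.commutes, ← mul_assoc, ← Units.val_mul, inv_mul_cancel, Units.val_one, one_mul]
  have hτT : τ T = ↑T⁻¹ := by
    have : S⁻¹ * (ct T * S) = T⁻¹ := by
      simp only [T, ctm, ctct, ctinv]; group
    exact congrArg Units.val this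
  have hTinv : (↑T⁻¹ : Matrix (Fin n) (Fin n) K) ∈ Algebra.adjoin K {(T : Matrix (Fin n) (Fin n) K)} := by
    obtain ⟨k, hk⟩ : ∃ k : ℕ, T ^ k = T⁻¹ := mem_powers_iff_mem_zpowers.mpr (Subgroup.inv_mem _ (Subgroup.mem_zpowers T))
    rw [← hk, Units.val_pow_eq_pow_val]
    exact pow_mem (Algebra.self_mem_adjoin_singleton K _) k
  have hinv : ∀ a ∈ Algebra.adjoin K {(T : Matrix (Fin n) (Fin n) K)}, τ (τ a) = a := by
    intro a ha
    induction ha using Algebra.adjoin_induction with
    | mem x hx =>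
      rw [Set.mem_singleton_iff] at hx
      subst hx
      rw [hτT]
      have : S⁻¹ * (ct T⁻¹ * S) = T := by
        simp only [T, ctm, ctct, ctinv, mul_inv_rev, inv_inv]; group
      exact congrArg Units.val this
    | algebraMap r => rw [hsc, hsc, hφ]
    | add x y _ _ hx hy => rw [map_add, map_add, hx, hy]
    | mul x y _ _ hx hy => rw [hmul, hmul, hx, hy]
  obtain ⟨w, hw'⟩ := hw
  obtain ⟨y, hyS, hyu, hy⟩ := (adjoin_singleton_norm φ τ hmul hsc hw' (Z := (T : Matrix (Fin n) (Fin n) K))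
    (hτT ▸ hTinv) hinv).1 T (Algebra.self_mem_adjoin_singleton K _)
    (by rw [hτT, ← Units.val_mul, mul_inv_cancel, Units.val_one])
  let Y := hyu.unit
  have hY : T * (S⁻¹ * (ct Y * S)) = Y := Units.ext hy
  have hcY : ct Y * S = S * T⁻¹ * Y := by
    calc ct Y * S = S * T⁻¹ * (T * (S⁻¹ * (ct Y * S))) := by group
      _ = S * T⁻¹ * Y := by rw [hY]
  have hYT : Y * T = T * Y := Units.ext (commute_of_mem_adjoin_singleton hyS (Algebra.self_mem_adjoin_singleton K _))
  have hctS : ct S = S * T := by show ct S = S * (S⁻¹ * ct S); group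
  let H := S * Y
  have hH : ct H = H := by
    show ct (S * Y) = S * Y
    rw [ctm]
    calc ct Y * ct S = (ct Y * S) * T := by rw [hctS, mul_assoc]
      _ = S * T⁻¹ * (Y * T) := by rw [hcY]; group
      _ = S * Y := by rw [hYT]; group
  obtain ⟨g, -, hg⟩ := exists_conjT_mul_self φ hφ ⟨w, hw'⟩ H (congrArg Units.val hH)
  refine ⟨g, ?_⟩
  have hYA : Y * A = A * Y := Units.ext (commute_adjoin_singleton (congrArg Units.val hTA) hyS)
  have hHA : ct A * H * A = H := by
    show ct A * (S * Y) * A = S * Y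
    calc ct A * (S * Y) * A = ct A * S * (Y * A) := by group
      _ = (ct A * S * A) * Y := by rw [hYA]; group
      _ = S * Y := by rw [hS']
  have hg' : ct g * g = H := Units.ext hg
  have : ct (g * A * g⁻¹) * (g * A * g⁻¹) = 1 := by
    calc ct (g * A * g⁻¹) * (g * A * g⁻¹) = (ct g)⁻¹ * (ct A * (ct g * g) * A) * g⁻¹ := by
          rw [ctm, ctm, ctinv]; group
      _ = (ct g)⁻¹ * (ct g * g) * g⁻¹ := by rw [hg', hHA]
      _ = 1 := by group
  exact congrArg Units.val this

end CfsgLib.Conj
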