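import Cfsg.Prelude.Def_KGroupFacts
import Cfsg.Agent.Lib.AutPSL.Count

set_option autoImplicit false

/-! The structure of `Out(PSL_n(q))`: diagonal part cyclic of order `gcd(n, q-1)`, by field × graph. -/

namespace CfsgLib.Conj

open CfsgLib.AutPSL

variable {n : ℕ} {F : Type*} [Field F] [Fintype F]

omit [Fintype F] in
/-- `β` lies in the coset of the inner-diagonal automorphisms labelled by `(σ, e)`. -/
def HasLabel (E : Type*) [Group E] (ι : E →* MulAut (PSLg n F)) (β : MulAut (PSLg n F)) (x : (F ≃+* F) × E) : Prop :=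
  ∃ g : GL (Fin n) F, β = diagAut g * fieldAut x.1 * ι x.2

/-- Abstract form: if every automorphism is diagonal·field·`ι e` for a unique label, the outer group maps onto
`Aut F × E` with kernel cyclic of order `gcd(n, q - 1)`. -/
theorem exists_out_hom (hn : 2 ≤ n) {E : Type*} [Group E] (ι : E →* MulAut (PSLg n F)) (jj : E → GL (Fin n) F → GL (Fin n) F)
    (hι : ∀ e g, ι e * diagAut g = diagAut (jj e g) * ι e)
    (hιf : ∀ e σ, ι e * fieldAut σ = fieldAut σ * ι e)
    (hex : ∀ β : MulAut (PSLg n F), ∃ x, HasLabel E ι β x)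
    (huniq : ∀ (g : GL (Fin n) F) x, diagAut g * fieldAut x.1 * ι x.2 = 1 → x = ((1, 1) : (F ≃+* F) × E)) :
    ∃ φ : Cfsg.Out (PSLg n F) →* (F ≃+* F) × E,
      Function.Surjective φ ∧ IsCyclic φ.ker ∧ Nat.card φ.ker = Nat.gcd n (Fintype.card F - 1) := by
  classical
  have hmul : ∀ (g g' : GL (Fin n) F) (σ σ' : F ≃+* F) (e e' : E),
      ∃ g'' : GL (Fin n) F, (diagAut g * fieldAut σ * ι e) * (diagAut g' * fieldAut σ' * ι e') = diagAut g'' * fieldAut (σ * σ') * ι (e * e') := by
    intro g g' σ σ' e e'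
    refine ⟨g * Matrix.GeneralLinearGroup.map σ.toRingHom (jj e g'), ?_⟩
    calc (diagAut g * fieldAut σ * ι e) * (diagAut g' * fieldAut σ' * ι e')
        = diagAut g * fieldAut σ * (ι e * diagAut g') * fieldAut σ' * ι e' := by group
      _ = diagAut g * (fieldAut σ * diagAut (jj e g')) * (ι e * fieldAut σ') * ι e' := by rw [hι]; group
      _ = _ := by rw [fieldAut_diagAut, hιf, map_mul, map_mul, map_mul]; group
  choose lab hlab using hex
  have hlu : ∀ β x, HasLabel E ι β x → lab β = x := by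
    rintro β ⟨σ', e'⟩ ⟨g', hg'⟩
    obtain ⟨g, hg⟩ := hlab β
    obtain ⟨gi, hgi⟩ : ∃ gi, (diagAut g' * fieldAut σ' * ι e')⁻¹ = diagAut gi * fieldAut σ'⁻¹ * ι e'⁻¹ := by
      refine ⟨Matrix.GeneralLinearGroup.map (σ'⁻¹ : F ≃+* F).toRingHom (jj e'⁻¹ g'⁻¹), ?_⟩
      calc (diagAut g' * fieldAut σ' * ι e')⁻¹ = ι e'⁻¹ * (fieldAut σ'⁻¹ * diagAut g'⁻¹) := by
            simp only [mul_inv_rev, map_inv]
        _ = (ι e'⁻¹ * fieldAut σ'⁻¹) * diagAut g'⁻¹ := by group
        _ = fieldAut σ'⁻¹ * (ι e'⁻¹ * diagAut g'⁻¹) := by rw [hιf]; group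
        _ = (fieldAut σ'⁻¹ * diagAut (jj e'⁻¹ g'⁻¹)) * ι e'⁻¹ := by rw [hι]; group
        _ = _ := by rw [fieldAut_diagAut]
    obtain ⟨g'', h''⟩ := hmul g gi (lab β).1 σ'⁻¹ (lab β).2 e'⁻¹
    rw [← hgi, ← hg, ← hg', mul_inv_cancel] at h''
    have := huniq g'' ((lab β).1 * σ'⁻¹, (lab β).2 * e'⁻¹) h''.symm
    exact Prod.ext (mul_inv_eq_one.mp (congrArg Prod.fst this)) (mul_inv_eq_one.mp (congrArg Prod.snd this))
  let L : MulAut (PSLg n F) →* (F ≃+* F) × E := MonoidHom.mk' lab fun β γ => by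
    obtain ⟨g, hg⟩ := hlab β
    obtain ⟨g', hg'⟩ := hlab γ
    obtain ⟨g'', h''⟩ := hmul g g' (lab β).1 (lab γ).1 (lab β).2 (lab γ).2
    exact hlu (β * γ) (lab β * lab γ) ⟨g'', by rw [← hg, ← hg'] at h''; exact h''⟩
  have hdiag : ∀ g : GL (Fin n) F, L (diagAut g) = 1 := fun g =>
    hlu _ (1, 1) ⟨g, by simp only [map_one, mul_one]⟩
  have hinn : Cfsg.Inn (PSLg n F) ≤ L.ker := by
    rintro _ ⟨x, rfl⟩
    induction x using QuotientGroup.induction_on with
    | _ s => rw [MonoidHom.mem_ker, ← diagAut_toGL]; exact hdiag _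
  let φ := QuotientGroup.lift (Cfsg.Inn (PSLg n F)) L hinn
  have hφmk : ∀ β, φ (QuotientGroup.mk β) = L β := fun β => rfl
  have hsurj : Function.Surjective φ := fun x =>
    ⟨QuotientGroup.mk (diagAut 1 * fieldAut x.1 * ι x.2), hlu _ x ⟨1, rfl⟩⟩
  -- diagonal representatives
  let i₀ : Fin n := ⟨0, by omega⟩
  let D : Fˣ →* GL (Fin n) F :=
    { toFun := fun a => Matrix.GeneralLinearGroup.mkOfDetNeZero (Matrix.diagonal fun i => if i = i₀ then (a : F) else 1)
        (by rw [Matrix.det_diagonal]; simp)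
      map_one' := Units.ext (by
        show Matrix.diagonal (fun i => if i = i₀ then ((1 : Fˣ) : F) else 1) = 1
        rw [← Matrix.diagonal_one]; congr 1; funext i; split <;> simp)
      map_mul' := fun a b => Units.ext (by
        show Matrix.diagonal (fun i => if i = i₀ then ((a * b : Fˣ) : F) else 1) = Matrix.diagonal _ * Matrix.diagonal _
        rw [Matrix.diagonal_mul_diagonal]; congr 1; funext i; split <;> simp) }
  have hDdet : ∀ a, Matrix.GeneralLinearGroup.det (D a) = a := fun a => Units.ext (by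
    show (Matrix.diagonal fun i => if i = i₀ then (a : F) else 1).det = a
    rw [Matrix.det_diagonal]; simp)
  have hsplit : ∀ g : GL (Fin n) F, ∃ s : SLg n F, g = D (Matrix.GeneralLinearGroup.det g) * Matrix.SpecialLinearGroup.toGL s := by
    intro g
    have h1 : Matrix.GeneralLinearGroup.det ((D (Matrix.GeneralLinearGroup.det g))⁻¹ * g) = 1 := by
      rw [map_mul, map_inv, hDdet, inv_mul_cancel]
    let s : SLg n F := ⟨_, congrArg Units.val h1⟩
    refine ⟨s, ?_⟩
    have : Matrix.SpecialLinearGroup.toGL s = (D (Matrix.GeneralLinearGroup.det g))⁻¹ * g := Units.ext rfl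
    rw [this, mul_inv_cancel_left]
  let δ : Fˣ →* φ.ker :=
    ((QuotientGroup.mk' (Cfsg.Inn (PSLg n F))).comp (diagAut.comp D)).codRestrict φ.ker fun a => hdiag (D a)
  have hδsurj : Function.Surjective δ := by
    rintro ⟨x, hx⟩
    induction x using QuotientGroup.induction_on with
    | _ β =>
      obtain ⟨g, hg⟩ := hlab β
      have hl : lab β = (1, 1) := hx
      rw [hl, map_one, map_one, mul_one, mul_one] at hg
      obtain ⟨s, hs⟩ := hsplit g
      refine ⟨Matrix.GeneralLinearGroup.det g, Subtype.ext ?_⟩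
      show QuotientGroup.mk (diagAut (D _)) = QuotientGroup.mk β
      rw [QuotientGroup.eq]
      refine ⟨QuotientGroup.mk s, ?_⟩
      have hb : (diagAut g : MulAut (PSLg n F)) = diagAut (D (Matrix.GeneralLinearGroup.det g)) * diagAut (Matrix.SpecialLinearGroup.toGL s) := by
        rw [← map_mul, ← hs]
      rw [hg, hb, inv_mul_cancel_left, diagAut_toGL]
  have hδker : δ.ker = (powMonoidHom n : Fˣ →* Fˣ).range := by
    ext a
    rw [MonoidHom.mem_ker]
    constructor
    · intro h
      have h' : diagAut (D a) ∈ Cfsg.Inn (PSLg n F) := (QuotientGroup.eq_one_iff _).mp (congrArg Subtype.val h)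
      obtain ⟨x, hx⟩ := h'
      induction x using QuotientGroup.induction_on with
      | _ s =>
        have : D a * (Matrix.SpecialLinearGroup.toGL s)⁻¹ ∈ (diagAut (n := n) (F := F)).ker := by
          rw [MonoidHom.mem_ker, map_mul, map_inv, diagAut_toGL, ← hx, mul_inv_cancel]
        rw [ker_diagAut hn, Matrix.GeneralLinearGroup.center_eq_range_scalar] at this
        obtain ⟨c, hc⟩ := this
        refine ⟨c, ?_⟩
        have hs : Matrix.GeneralLinearGroup.det (Matrix.SpecialLinearGroup.toGL s) = 1 := Units.ext s.2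
        have h2 := congrArg Matrix.GeneralLinearGroup.det hc
        rw [map_mul, map_inv, hDdet, hs, inv_one, mul_one] at h2
        rw [← h2]
        show c ^ n = _
        exact Units.ext (by simp [Matrix.det_diagonal])
    · rintro ⟨c, rfl⟩
      apply Subtype.ext
      show QuotientGroup.mk (diagAut (D (c ^ n))) = 1
      rw [QuotientGroup.eq_one_iff]
      obtain ⟨s, hs⟩ := hsplit (Matrix.GeneralLinearGroup.scalar (Fin n) c)
      have hdc : Matrix.GeneralLinearGroup.det (Matrix.GeneralLinearGroup.scalar (Fin n) c) = c ^ n :=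
        Units.ext (by simp [Matrix.det_diagonal])
      rw [hdc] at hs
      have hk : diagAut (n := n) (F := F) (Matrix.GeneralLinearGroup.scalar (Fin n) c) = 1 := by
        rw [← MonoidHom.mem_ker, ker_diagAut hn, Matrix.GeneralLinearGroup.center_eq_range_scalar]
        exact ⟨c, rfl⟩
      rw [hs, map_mul, diagAut_toGL] at hk
      exact ⟨(QuotientGroup.mk s)⁻¹, by rw [map_inv]; exact (eq_inv_of_mul_eq_one_left hk).symm⟩
  refine ⟨φ, hsurj, isCyclic_of_surjective δ hδsurj, ?_⟩
  rw [← Nat.card_congr (QuotientGroup.quotientKerEquivOfSurjective δ hδsurj).toEquiv]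
  show δ.ker.index = _
  rw [hδker, IsCyclic.index_powMonoidHom_range, Nat.card_units, Nat.card_eq_fintype_card, Nat.gcd_comm]

/-- `Aut` of a field with `p ^ f` elements is cyclic of order `f`. -/
theorem exists_ringAut_equiv {p f : ℕ} [Fact p.Prime] (hF : Fintype.card F = p ^ f) :
    Nonempty ((F ≃+* F) ≃* Multiplicative (ZMod f)) := by
  obtain ⟨c, hc⟩ := CharP.exists F
  haveI := hc
  haveI : Fact c.Prime := ⟨CharP.char_is_prime F c⟩
  letI : Algebra (ZMod c) F := ZMod.algebra _ _
  let e : (F ≃ₐ[ZMod c] F) →* (F ≃+* F) :=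
    { toFun := fun σ => σ.toRingEquiv, map_one' := rfl, map_mul' := fun _ _ => rfl }
  have he : Function.Surjective e := fun σ =>
    ⟨AlgEquiv.ofRingEquiv (f := σ) (fun x => by rw [← ZMod.natCast_zmod_val x, map_natCast, map_natCast]), RingEquiv.ext fun _ => rfl⟩
  haveI : IsCyclic (F ≃+* F) := isCyclic_of_surjective e he
  exact ⟨(zmodMulEquivOfGenerator (Classical.choose_spec (IsCyclic.exists_generator (α := F ≃+* F))) (card_ringAut hF)).symm⟩

theorem map_hom_ker {G A B : Type*} [Group G] [Group A] [Group B] {m : ℕ} (φ : G →* A) (e : A ≃* B)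
    (h : Function.Surjective φ ∧ IsCyclic φ.ker ∧ Nat.card φ.ker = m) :
    ∃ ψ : G →* B, Function.Surjective ψ ∧ IsCyclic ψ.ker ∧ Nat.card ψ.ker = m :=
  ⟨(e : A →* B).comp φ, e.surjective.comp h.1, by rw [MonoidHom.ker_mulEquiv_comp]; exact h.2.1, by rw [MonoidHom.ker_mulEquiv_comp]; exact h.2.2⟩

/-- `Out(PSL_n(q))` for `n = 2`. -/
theorem out_psl_two {p f : ℕ} [Fact p.Prime] (hF : Fintype.card F = p ^ f) :
    ∃ φ : Cfsg.Out (PSLg 2 F) →* Multiplicative (ZMod f),
      Function.Surjective φ ∧ IsCyclic φ.ker ∧ Nat.card φ.ker = Nat.gcd 2 (p ^ f - 1) := by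
  obtain ⟨eF⟩ := exists_ringAut_equiv (F := F) hF
  obtain ⟨φ, hφ⟩ := exists_out_hom (n := 2) (F := F) le_rfl (E := Unit) (1 : Unit →* _) (fun _ g => g)
    (fun e g => by simp) (fun e σ => by simp)
    (fun β => by
      obtain ⟨g, σ, h | ⟨h3, -⟩⟩ := aut_decomposition le_rfl β
      · exact ⟨(σ, ()), g, by simpa using h⟩
      · omega)
    (fun g x h => by
      rw [MonoidHom.one_apply, mul_one] at h
      exact Prod.ext (semilinear_eq_one le_rfl h).2 rfl)
  rw [hF] at hφ
  exact map_hom_ker φ ((MulEquiv.prodUnique (M := F ≃+* F) (N := Unit)).trans eF) hφ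

/-- `Out(PSL_n(q))` for `n ≥ 3`. -/
theorem out_psl_high (hn : 3 ≤ n) {p f : ℕ} [Fact p.Prime] (hF : Fintype.card F = p ^ f) :
    ∃ φ : Cfsg.Out (PSLg n F) →* Multiplicative (ZMod f × ZMod 2),
      Function.Surjective φ ∧ IsCyclic φ.ker ∧ Nat.card φ.ker = Nat.gcd n (p ^ f - 1) := by
  obtain ⟨eF⟩ := exists_ringAut_equiv (F := F) hF
  have hsq : (itAut : MulAut (PSLg n F)) * itAut = 1 := itAut_mul_self
  let ι : Multiplicative (ZMod 2) →* MulAut (PSLg n F) := MonoidHom.mk'
    (fun e => if Multiplicative.toAdd e = 0 then 1 else itAut) (by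
      intro a b
      have h2 : ∀ z : ZMod 2, z = 0 ∨ z = 1 := by decide
      rcases h2 (Multiplicative.toAdd a) with ha | ha <;> rcases h2 (Multiplicative.toAdd b) with hb | hb <;>
        simp [toAdd_mul, ha, hb, hsq, show (1 : ZMod 2) + 1 = 0 from rfl])
  have hι0 : ∀ e, Multiplicative.toAdd e = 0 → ι e = 1 := fun e h => if_pos h
  have hι1 : ∀ e, Multiplicative.toAdd e ≠ 0 → ι e = itAut := fun e h => if_neg h
  obtain ⟨φ, hφ⟩ := exists_out_hom (n := n) (F := F) (by omega) ι (fun e g => if Multiplicative.toAdd e = 0 then g else itGL g)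
    (fun e g => by
      by_cases h : Multiplicative.toAdd e = 0
      · rw [hι0 e h, if_pos h, one_mul, mul_one]
      · rw [hι1 e h, if_neg h, itAut_diagAut])
    (fun e σ => by
      by_cases h : Multiplicative.toAdd e = 0
      · rw [hι0 e h, one_mul, mul_one]
      · rw [hι1 e h, itAut_fieldAut])
    (fun β => by
      obtain ⟨g, σ, h | ⟨-, h⟩⟩ := aut_decomposition (by omega) β
      · exact ⟨(σ, 1), g, by rw [map_one, mul_one]; exact h⟩
      · exact ⟨(σ, Multiplicative.ofAdd 1), g, h.trans (congrArg (fun z => diagAut g * fieldAut σ * z) (hι1 (Multiplicative.ofAdd 1) (one_ne_zero (α := ZMod 2))).symm)⟩)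
    (fun g x h => by
      by_cases he : Multiplicative.toAdd x.2 = 0
      · rw [hι0 _ he, mul_one] at h
        exact Prod.ext (semilinear_eq_one (by omega) h).2 (Multiplicative.toAdd.injective he)
      · rw [hι1 _ he] at h
        exfalso
        refine itAut_ne_semilinear hn g x.1 ?_
        rw [eq_inv_of_mul_eq_one_left h, itAut_inv])
  rw [hF] at hφ
  exact map_hom_ker φ ((eF.prodCongr (MulEquiv.refl _)).trans
    (MulEquiv.prodMultiplicative (ZMod f) (ZMod 2)).symm) hφ

end CfsgLib.Conj
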