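import Mathlib

set_option autoImplicit false

/-! Regular nilpotent matrices: cyclic vector, commutant, and the count of its units. -/

namespace CfsgLib.Conj

variable {F : Type*} [Field F] {ι : Type*} [Fintype ι] [DecidableEq ι]

/-- `N` is nilpotent of index and rank `card ι`, `card ι - 1`. -/
structure IsRegNilp (N : Matrix ι ι F) : Prop where
  pow_card : N ^ Fintype.card ι = 0
  rank_eq : N.rank = Fintype.card ι - 1
  card_pos : 0 < Fintype.card ι

namespace IsRegNilp

variable {N : Matrix ι ι F} (h : IsRegNilp N)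

theorem pow_succ_mulVec (N : Matrix ι ι F) (j : ℕ) (v : ι → F) : (N ^ (j + 1)).mulVec v = N.mulVec ((N ^ j).mulVec v) := by
  rw [pow_succ', Matrix.mulVec_mulVec]

include h

theorem finrank_ker_le_one : Module.finrank F (LinearMap.ker N.mulVecLin) ≤ 1 := by
  have h1 := LinearMap.finrank_range_add_finrank_ker N.mulVecLin
  rw [Module.finrank_fintype_fun_eq_card] at h1
  have h2 : Module.finrank F (LinearMap.range N.mulVecLin) = Fintype.card ι - 1 := h.rank_eq
  omega

theorem finrank_ker_pow_le (j : ℕ) : Module.finrank F (LinearMap.ker (N ^ j).mulVecLin) ≤ j := by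
  induction j with
  | zero => simp
  | succ j ih =>
    have hle : (LinearMap.ker (N ^ (j + 1)).mulVecLin).map N.mulVecLin ≤ LinearMap.ker (N ^ j).mulVecLin := by
      rintro _ ⟨v, hv, rfl⟩
      simp only [SetLike.mem_coe, LinearMap.mem_ker, Matrix.mulVecLin_apply] at hv ⊢
      rw [Matrix.mulVec_mulVec, ← pow_succ]; exact hv
    have h1 := LinearMap.finrank_range_add_finrank_ker (N.mulVecLin.domRestrict (LinearMap.ker (N ^ (j + 1)).mulVecLin))
    rw [LinearMap.range_domRestrict] at h1
    have h2 : Module.finrank F (LinearMap.ker (N.mulVecLin.domRestrict (LinearMap.ker (N ^ (j + 1)).mulVecLin))) ≤ 1 := by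
      refine le_trans ?_ h.finrank_ker_le_one
      apply LinearMap.finrank_le_finrank_of_injective (f := LinearMap.codRestrict (LinearMap.ker N.mulVecLin)
        ((LinearMap.ker (N ^ (j + 1)).mulVecLin).subtype.comp (Submodule.subtype _)) (fun c => c.2))
      intro a b hab
      exact Subtype.ext (Subtype.ext (congrArg Subtype.val hab :))
    have h3 := Submodule.finrank_mono hle
    omega

/-- the top power is nonzero -/
theorem pow_pred_ne_zero : N ^ (Fintype.card ι - 1) ≠ 0 := by
  intro h0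
  have h1 := h.finrank_ker_pow_le (Fintype.card ι - 1)
  rw [h0, Matrix.mulVecLin_zero, LinearMap.ker_zero, finrank_top, Module.finrank_fintype_fun_eq_card] at h1
  have := h.card_pos
  omega

theorem range_eq_ker : LinearMap.range N.mulVecLin = LinearMap.ker (N ^ (Fintype.card ι - 1)).mulVecLin := by
  have hle : LinearMap.range N.mulVecLin ≤ LinearMap.ker (N ^ (Fintype.card ι - 1)).mulVecLin := by
    rintro _ ⟨v, rfl⟩
    rw [LinearMap.mem_ker, Matrix.mulVecLin_apply, Matrix.mulVecLin_apply, Matrix.mulVec_mulVec, ← pow_succ,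
      Nat.sub_add_cancel h.card_pos, h.pow_card, Matrix.zero_mulVec]
  refine Submodule.eq_of_le_of_finrank_le hle ?_
  have h2 : Module.finrank F (LinearMap.range N.mulVecLin) = Fintype.card ι - 1 := h.rank_eq
  rw [h2]
  exact h.finrank_ker_pow_le _

theorem exists_cyclic : ∃ v : ι → F, v ∉ LinearMap.range N.mulVecLin := by
  by_contra hc
  push Not at hc
  apply h.pow_pred_ne_zero
  refine Matrix.ext_of_mulVec_single fun j => ?_
  have := hc (Pi.single j 1)
  rw [h.range_eq_ker, LinearMap.mem_ker, Matrix.mulVecLin_apply] at this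
  rw [this, Matrix.zero_mulVec]

theorem linearIndependent {v : ι → F} (hv : v ∉ LinearMap.range N.mulVecLin) :
    LinearIndependent F (fun i : Fin (Fintype.card ι) => (N ^ (i : ℕ)).mulVec v) := by
  classical
  set n := Fintype.card ι
  have hv' : (N ^ (n - 1)).mulVec v ≠ 0 := fun h0 => hv (by rw [h.range_eq_ker]; exact h0)
  rw [Fintype.linearIndependent_iff]
  intro c hc i
  induction hi : (i : ℕ) using Nat.strong_induction_on generalizing i with
  | _ k ih =>
    have h1 := congrArg (N ^ (n - 1 - k)).mulVec hc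
    rw [Matrix.mulVec_zero, Matrix.mulVec_sum, Finset.sum_eq_single i] at h1
    · rw [Matrix.mulVec_smul, Matrix.mulVec_mulVec, ← pow_add, hi,
        Nat.sub_add_cancel (show k ≤ n - 1 by omega)] at h1
      exact (smul_eq_zero.mp h1).resolve_right hv'
    · intro j _ hj
      have hne : (j : ℕ) ≠ k := fun e => hj (Fin.ext (e.trans hi.symm))
      rcases lt_or_gt_of_ne hne with hlt | hgt
      · rw [ih j hlt j rfl, zero_smul, Matrix.mulVec_zero]
      · rw [Matrix.mulVec_smul, Matrix.mulVec_mulVec, ← pow_add]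
        obtain ⟨d, hd⟩ : ∃ d, n - 1 - k + (j : ℕ) = n + d := ⟨n - 1 - k + (j : ℕ) - n, by omega⟩
        rw [hd, pow_add, h.pow_card, zero_mul, Matrix.zero_mulVec, smul_zero]
    · simp

/-- The basis `v, N v, N² v, …` of a cyclic vector. -/
noncomputable def cycBasis {v : ι → F} (hv : v ∉ LinearMap.range N.mulVecLin) :
    Module.Basis (Fin (Fintype.card ι)) F (ι → F) :=
  basisOfLinearIndependentOfCardEqFinrank' (fun i : Fin (Fintype.card ι) => (N ^ (i : ℕ)).mulVec v) (h.linearIndependent hv)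
    (by rw [Fintype.card_fin, Module.finrank_fintype_fun_eq_card])

theorem cycBasis_apply {v : ι → F} (hv : v ∉ LinearMap.range N.mulVecLin) (i : Fin (Fintype.card ι)) :
    h.cycBasis hv i = (N ^ (i : ℕ)).mulVec v := by
  simp [cycBasis]

theorem eq_of_commute_of_mulVec_eq {v : ι → F} (hv : v ∉ LinearMap.range N.mulVecLin) {X Y : Matrix ι ι F}
    (hX : Commute X N) (hY : Commute Y N) (he : X.mulVec v = Y.mulVec v) : X = Y := by
  apply Matrix.toLin'.injective
  refine (h.cycBasis hv).ext fun i => ?_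
  rw [h.cycBasis_apply hv, Matrix.toLin'_apply, Matrix.toLin'_apply, Matrix.mulVec_mulVec, Matrix.mulVec_mulVec,
    (hX.pow_right _).eq, (hY.pow_right _).eq, ← Matrix.mulVec_mulVec, he, Matrix.mulVec_mulVec]

/-- Every matrix commuting with a regular nilpotent one is a polynomial in it. -/
theorem exists_sum_of_commute {X : Matrix ι ι F} (hX : Commute X N) :
    ∃ c : Fin (Fintype.card ι) → F, X = ∑ i, c i • N ^ (i : ℕ) := by
  obtain ⟨v, hv⟩ := h.exists_cyclic
  refine ⟨fun i => (h.cycBasis hv).repr (X.mulVec v) i, h.eq_of_commute_of_mulVec_eq hv hX ?_ ?_⟩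
  · exact Commute.sum_left _ _ _ fun i _ => (Commute.pow_self N _).smul_left _
  · rw [Matrix.sum_mulVec]
    conv_lhs => rw [← (h.cycBasis hv).sum_repr (X.mulVec v)]
    exact Finset.sum_congr rfl fun i _ => by rw [h.cycBasis_apply hv, Matrix.smul_mulVec]

/-- Regular nilpotent matrices of one size are conjugate by an element of `GL`. -/
theorem exists_conj {N' : Matrix ι ι F} (h' : IsRegNilp N') :
    ∃ g : (Matrix ι ι F)ˣ, (g : Matrix ι ι F) * N = N' * g := by
  obtain ⟨v, hv⟩ := h.exists_cyclic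
  obtain ⟨w, hw⟩ := h'.exists_cyclic
  let e := (h.cycBasis hv).equiv (h'.cycBasis hw) (Equiv.refl _)
  have hu : IsUnit (LinearMap.toMatrix' (e : (ι → F) →ₗ[F] (ι → F))) := by
    rw [← Matrix.mulVec_injective_iff_isUnit]
    intro a b hab
    rw [LinearMap.toMatrix'_mulVec, LinearMap.toMatrix'_mulVec] at hab
    exact e.injective hab
  refine ⟨hu.unit, ?_⟩
  rw [IsUnit.unit_spec]
  apply Matrix.toLin'.injective
  refine (h.cycBasis hv).ext fun i => ?_
  rw [Matrix.toLin'_apply, Matrix.toLin'_apply, ← Matrix.mulVec_mulVec, ← Matrix.mulVec_mulVec, LinearMap.toMatrix'_mulVec,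
    LinearMap.toMatrix'_mulVec, LinearEquiv.coe_coe]
  have hei : e (h.cycBasis hv i) = h'.cycBasis hw i := by simp [e]
  rw [hei, h'.cycBasis_apply hw, ← pow_succ_mulVec, h.cycBasis_apply hv, ← pow_succ_mulVec]
  by_cases hi : (i : ℕ) + 1 < Fintype.card ι
  · rw [← h.cycBasis_apply hv ⟨(i : ℕ) + 1, hi⟩, ← h'.cycBasis_apply hw ⟨(i : ℕ) + 1, hi⟩]
    simp [e]
  · have hie : (i : ℕ) + 1 = Fintype.card ι := by omega
    rw [hie, h.pow_card, h'.pow_card]
    simp

/-- An element commuting with `N` is invertible as soon as it maps a cyclic vector to a cyclic vector. -/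
theorem isUnit_of_commute {X : Matrix ι ι F} (hX : Commute X N) {v : ι → F} (hv : v ∉ LinearMap.range N.mulVecLin)
    (hw : X.mulVec v ∉ LinearMap.range N.mulVecLin) : IsUnit X := by
  rw [← Matrix.mulVec_surjective_iff_isUnit]
  intro z
  refine ⟨∑ i, ((h.cycBasis hw).repr z i) • (N ^ (i : ℕ)).mulVec v, ?_⟩
  conv_rhs => rw [← (h.cycBasis hw).sum_repr z]
  rw [Matrix.mulVec_sum]
  exact Finset.sum_congr rfl fun i _ => by
    rw [Matrix.mulVec_smul, h.cycBasis_apply hw, Matrix.mulVec_mulVec, (hX.pow_right _).eq, Matrix.mulVec_mulVec]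

theorem exists_commute_mulVec_eq {v : ι → F} (hv : v ∉ LinearMap.range N.mulVecLin) (w : ι → F) :
    ∃ X : Matrix ι ι F, Commute X N ∧ X.mulVec v = w := by
  refine ⟨∑ i, (h.cycBasis hv).repr w i • N ^ (i : ℕ), Commute.sum_left _ _ _ fun i _ => (Commute.pow_self N _).smul_left _, ?_⟩
  rw [Matrix.sum_mulVec]
  conv_rhs => rw [← (h.cycBasis hv).sum_repr w]
  exact Finset.sum_congr rfl fun i _ => by rw [h.cycBasis_apply hv, Matrix.smul_mulVec]

/-- The commutant has `(q - 1) q^(n-1)` units. -/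
theorem card_units_commute [Fintype F] :
    Nat.card {g : (Matrix ι ι F)ˣ // (g : Matrix ι ι F) * N = N * g} = (Fintype.card F - 1) * Fintype.card F ^ (Fintype.card ι - 1) := by
  classical
  obtain ⟨v, hv⟩ := h.exists_cyclic
  set R := LinearMap.range N.mulVecLin with hR
  have himg : ∀ g : {g : (Matrix ι ι F)ˣ // (g : Matrix ι ι F) * N = N * g}, (g.1 : Matrix ι ι F).mulVec v ∉ R := by
    rintro ⟨g, hg⟩ hmem
    obtain ⟨z, hz⟩ := hmem
    apply hv
    have hgi : ((g⁻¹ : (Matrix ι ι F)ˣ) : Matrix ι ι F) * N = N * (g⁻¹ : (Matrix ι ι F)ˣ) := (Commute.units_inv_left (hg : Commute (g : Matrix ι ι F) N)).eq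
    refine ⟨((g⁻¹ : (Matrix ι ι F)ˣ) : Matrix ι ι F).mulVec z, ?_⟩
    rw [Matrix.mulVecLin_apply, Matrix.mulVec_mulVec, ← hgi, ← Matrix.mulVec_mulVec]
    rw [Matrix.mulVecLin_apply] at hz
    rw [hz, Matrix.mulVec_mulVec, ← Units.val_mul, inv_mul_cancel, Units.val_one, Matrix.one_mulVec]
  have e : {g : (Matrix ι ι F)ˣ // (g : Matrix ι ι F) * N = N * g} ≃ ↥((R : Set (ι → F))ᶜ) := by
    refine Equiv.ofBijective (fun g => ⟨(g.1 : Matrix ι ι F).mulVec v, himg g⟩) ⟨?_, ?_⟩
    · intro a b hab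
      exact Subtype.ext (Units.ext (h.eq_of_commute_of_mulVec_eq hv a.2 b.2 (congrArg Subtype.val hab :)))
    · rintro ⟨w, hw⟩
      obtain ⟨X, hX, hXv⟩ := h.exists_commute_mulVec_eq hv w
      have hu : IsUnit X := h.isUnit_of_commute hX hv (by rw [hXv]; exact hw)
      exact ⟨⟨hu.unit, hX⟩, Subtype.ext hXv⟩
  rw [Nat.card_congr e, Nat.card_eq_fintype_card, Fintype.card_compl_set]
  have h1 : Fintype.card (↥((R : Set (ι → F)))) = Fintype.card F ^ (Fintype.card ι - 1) := by
    rw [← h.rank_eq]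
    rw [← Nat.card_eq_fintype_card, ← Nat.card_eq_fintype_card]
    exact Module.natCard_eq_pow_finrank (K := F) (V := R)
  rw [h1, Fintype.card_fun, Nat.sub_mul, one_mul, ← pow_succ', Nat.sub_add_cancel h.card_pos]

end IsRegNilp

/-- `det (c + M) = c ^ n` for nilpotent `M`. -/
theorem det_smul_one_add_nilpotent {M : Matrix ι ι F} (hM : IsNilpotent M) (c : F) :
    (c • (1 : Matrix ι ι F) + M).det = c ^ Fintype.card ι := by
  have h1 : (-M).charpoly = Polynomial.X ^ Fintype.card ι := by
    exact sub_eq_zero.mp (Matrix.isNilpotent_charpoly_sub_pow_of_isNilpotent hM.neg).eq_zero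
  have h2 := Matrix.eval_charpoly (-M) c
  rw [h1, Polynomial.eval_pow, Polynomial.eval_X, sub_neg_eq_add] at h2
  rw [h2, Matrix.scalar_apply, Matrix.smul_one_eq_diagonal]

end CfsgLib.Conj
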